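import Groth.Prelude.Def_Curve
import Groth.Prelude.Def_CurvBase
import Groth.Agent.AlgStB.FieldCoverRegular
import Groth.Agent.FunFldLib.Finite
import Groth.Agent.CurveQProj.Affine
import Groth.Agent.DimTheory.Algebra
import Mathlib.AlgebraicGeometry.ValuativeCriterion
import Mathlib.RingTheory.NoetherNormalization

/-!
# Smooth proper curves and their function fields: places are the closed points
-/

noncomputable section

set_option autoImplicit false
set_option backward.isDefEq.respectTransparency.types false
set_option linter.style.haveILetI false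

universe u

open CategoryTheory CategoryTheory.Limits AlgebraicGeometry Opposite TopologicalSpace WithZero

namespace Groth.Agent.CurveFF

variable (k : Type u) [Field k] (X : Scheme.{u}) [X.Over (Spec (CommRingCat.of k))] [IsIntegral X]

/-- the function field as an algebra over the base field -/
abbrev ffAlg : Algebra k X.functionField := (Curv2.stalkMap k X (genericPoint X)).toAlgebra

attribute [local instance] ffAlg

variable {k X}

theorem eta_spec (x : X) : genericPoint X ⤳ x := (genericPoint_spec X).specializes trivial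

theorem algebraMap_germ {U : X.Opens} (x : X) (hx : x ∈ U) (r : Γ(X, U)) :
    algebraMap (X.presheaf.stalk x) X.functionField (X.presheaf.germ U x hx r) =
      X.presheaf.germ U (genericPoint X) ((eta_spec x).mem_open U.2 hx) r :=
  TopCat.Presheaf.germ_stalkSpecializes_apply X.presheaf hx (eta_spec x) r

theorem algebraMap_stalkMap (x : X) (c : k) :
    algebraMap (X.presheaf.stalk x) X.functionField (Curv2.stalkMap k X x c) = algebraMap k X.functionField c :=
  algebraMap_germ (U := (⊤ : X.Opens)) x trivial _

theorem over_eq : (X ↘ Spec (CommRingCat.of k)) = X.toSpecΓ ≫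
      Spec.map (CommRingCat.ofHom (Coh.toGlobal (X ↘ Spec (CommRingCat.of k)))) := by
  rw [← cancel_mono (Spec (CommRingCat.of k)).toSpecΓ, Scheme.toSpecΓ_naturality, Category.assoc]
  congr 1
  rw [← SpecMap_ΓSpecIso_hom, ← Spec.map_comp]
  congr 1
  ext c
  simp [Coh.toGlobal]

theorem fromSpecStalk_comp_over (x : X) :
    X.fromSpecStalk x ≫ (X ↘ Spec (CommRingCat.of k)) = Spec.map (CommRingCat.ofHom (Curv2.stalkMap k X x)) := by
  conv_lhs => rw [over_eq (k := k) (X := X)]
  rw [← Category.assoc, Scheme.fromSpecStalk_toSpecΓ, ← Spec.map_comp]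
  rfl

section Curve

variable (hX : Curve.IsSmoothProperCurve k X (X ↘ Spec (CommRingCat.of k)))

include hX in
theorem dim_le : topologicalKrullDim X ≤ 1 := hX.2.2.2.le

include hX in
theorem isClosed_singleton {x : X} (hx : x ≠ genericPoint X) : IsClosed ({x} : Set X) :=
  CurveQProj.closed_of_ne_generic (dim_le hX) eta_spec hx

theorem not_isField_stalk {x : X} (hx : x ≠ genericPoint X) : ¬ IsField (X.presheaf.stalk x) := by
  intro hf
  obtain ⟨U, hU, hxU, -⟩ := exists_isAffineOpen_mem_and_subset (U := (⊤ : X.Opens)) (x := x) trivial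
  have hηU : genericPoint X ∈ U := (eta_spec x).mem_open U.2 hxU
  haveI : Nonempty U := ⟨⟨x, hxU⟩⟩
  letI := TopCat.Presheaf.algebra_section_stalk X.presheaf ⟨x, hxU⟩
  haveI hloc : IsLocalization.AtPrime (X.presheaf.stalk x) (hU.primeIdealOf ⟨x, hxU⟩).asIdeal :=
    hU.isLocalization_stalk ⟨x, hxU⟩
  letI := hf.toField
  have hbot : (hU.primeIdealOf ⟨x, hxU⟩).asIdeal = ⊥ := by
    rw [← IsLocalization.AtPrime.comap_maximalIdeal (X.presheaf.stalk x) (hU.primeIdealOf ⟨x, hxU⟩).asIdeal,
      (IsLocalRing.isField_iff_maximalIdeal_eq).1 hf]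
    refine (eq_bot_iff).2 fun r hr => ?_
    refine germ_injective_of_isIntegral X x hxU ?_
    rw [map_zero]
    exact Ideal.mem_bot.1 hr
  apply hx
  have h2 := hU.fromSpec_primeIdealOf ⟨x, hxU⟩
  have h3 := hU.fromSpec_primeIdealOf ⟨genericPoint X, hηU⟩
  have hgen : genericPoint X = hU.fromSpec ⟨⊥, Ideal.isPrime_bot⟩ := by
    haveI : IsOpenImmersion hU.fromSpec := inferInstance
    rw [← genericPoint_eq_of_isOpenImmersion hU.fromSpec, genericPoint_eq_bot_of_affine]
    rfl
  exact (h2.symm.trans (congrArg hU.fromSpec (PrimeSpectrum.ext hbot))).trans hgen.symm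

include hX in
theorem isDVR (x : X) (hx : x ≠ genericPoint X) : IsDiscreteValuationRing (X.presheaf.stalk x) := by
  haveI := hX.1
  haveI := hX.2.1
  haveI : IsRegularLocalRing (X.presheaf.stalk x) :=
    AlgStB.isRegularLocalRing_stalk_of_smooth_field (X ↘ Spec (CommRingCat.of k)) x
  haveI : IsNoetherianRing (X.presheaf.stalk x) := inferInstance
  have hdim : ringKrullDim (X.presheaf.stalk x) ≤ 1 := by
    rw [ringKrullDim_stalk_eq_coheight]
    exact (Order.coheight_le_krullDim x).trans (le_of_eq_of_le
      (Order.krullDim_eq_iSup_height.trans (DimTheory.topologicalKrullDim_eq_iSup_height X).symm) (dim_le hX))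
  have hnf := not_isField_stalk hx
  have hfr : (IsLocalRing.maximalIdeal (X.presheaf.stalk x)).spanFinrank ≤ 1 := by
    have h := (isRegularLocalRing_iff _).1 ‹IsRegularLocalRing (X.presheaf.stalk x)›
    rw [← h] at hdim
    exact_mod_cast hdim
  have hprinc : (IsLocalRing.maximalIdeal (X.presheaf.stalk x)).IsPrincipal := by
    rcases Nat.le_one_iff_eq_zero_or_eq_one.1 hfr with h0 | h1
    · rw [(Submodule.spanFinrank_eq_zero_iff_eq_bot (Ideal.fg_of_isNoetherianRing _)).1 h0]
      infer_instance
    · exact ((Submodule.spanFinrank_eq_one_iff _).1 h1).1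
  exact ((IsDiscreteValuationRing.TFAE (X.presheaf.stalk x) hnf).out 0 4
    (a := IsDiscreteValuationRing (X.presheaf.stalk x))
    (b := (IsLocalRing.maximalIdeal (X.presheaf.stalk x)).IsPrincipal)).2 hprinc

/-- the place of a closed point -/
def placeOf (x : X) [IsDiscreteValuationRing (X.presheaf.stalk x)] : FunFld.Place k X.functionField :=
  ⟨(IsDiscreteValuationRing.maximalIdeal (X.presheaf.stalk x)).valuation X.functionField, fun c => by
    rw [← algebraMap_stalkMap x c]
    exact IsDedekindDomain.HeightOneSpectrum.valuation_le_one _ _,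
    IsDedekindDomain.HeightOneSpectrum.valuation_surjective _ _⟩

theorem placeOf_le_one_iff (x : X) [IsDiscreteValuationRing (X.presheaf.stalk x)] (y : X.functionField) :
    (placeOf (k := k) x).1 y ≤ 1 ↔ ∃ a : X.presheaf.stalk x, algebraMap (X.presheaf.stalk x) X.functionField a = y := by
  refine ⟨fun h => ?_, ?_⟩
  · refine IsDedekindDomain.HeightOneSpectrum.mem_integers_of_valuation_le_one X.functionField y fun v => ?_
    rw [show v = IsDiscreteValuationRing.maximalIdeal (X.presheaf.stalk x) from
      IsDedekindDomain.HeightOneSpectrum.ext (IsLocalRing.eq_maximalIdeal v.isMaximal)]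
    exact h
  · rintro ⟨a, rfl⟩
    exact IsDedekindDomain.HeightOneSpectrum.valuation_le_one _ _

theorem placeOf_lt_one_iff (x : X) [IsDiscreteValuationRing (X.presheaf.stalk x)] (a : X.presheaf.stalk x) :
    (placeOf (k := k) x).1 (algebraMap (X.presheaf.stalk x) X.functionField a) < 1 ↔
      a ∈ IsLocalRing.maximalIdeal (X.presheaf.stalk x) := by
  exact (IsDedekindDomain.HeightOneSpectrum.valuation_lt_one_iff_mem _ _).trans Iff.rfl

theorem placeOf_deg (x : X) [IsDiscreteValuationRing (X.presheaf.stalk x)] :
    (placeOf (k := k) x).deg = @Module.finrank k (X.residueField x) _ _ (Curv2.resAlgebra k X x).toModule := by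
  letI := Curv2.resAlgebra k X x
  set P := placeOf (k := k) x
  let φ : X.presheaf.stalk x →+* P.O := (algebraMap (X.presheaf.stalk x) X.functionField).codRestrict P.O
    fun a => (placeOf_le_one_iff x _).2 ⟨a, rfl⟩
  have hφ : Function.Bijective φ := by
    refine ⟨fun a b h => IsFractionRing.injective (X.presheaf.stalk x) X.functionField (congrArg Subtype.val h), fun y => ?_⟩
    obtain ⟨a, ha⟩ := (placeOf_le_one_iff x _).1 y.2
    exact ⟨a, Subtype.ext ha⟩
  let e := RingEquiv.ofBijective φ hφ
  let ē : X.residueField x ≃+* IsLocalRing.ResidueField P.O := IsLocalRing.ResidueField.mapEquiv e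
  refine (LinearEquiv.finrank_eq (AlgEquiv.ofRingEquiv (f := ē) fun c => ?_).toLinearEquiv).symm
  show IsLocalRing.residue P.O (e (Curv2.stalkMap k X x c)) = IsLocalRing.residue P.O (algebraMap k P.O c)
  exact congrArg _ (Subtype.ext (algebraMap_stalkMap x c))

include hX in
theorem placeOf_injective {x y : X} [IsDiscreteValuationRing (X.presheaf.stalk x)]
    [IsDiscreteValuationRing (X.presheaf.stalk y)] (h : placeOf (k := k) x = placeOf y) : x = y := by
  haveI := hX.1
  by_contra hne
  obtain ⟨U, hU, hxU, -⟩ := exists_isAffineOpen_mem_and_subset (U := (⊤ : X.Opens)) (x := x) trivial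
  -- transfer through the valuative criterion uniqueness
  let P := placeOf (k := k) x
  have hsp : ∀ z : X, ∀ [IsDiscreteValuationRing (X.presheaf.stalk z)], placeOf (k := k) z = P →
      ∃ l : Spec (CommRingCat.of P.O) ⟶ X,
        Spec.map (CommRingCat.ofHom (algebraMap P.O X.functionField)) ≫ l = X.fromSpecStalk (genericPoint X) ∧
        l ≫ (X ↘ Spec (CommRingCat.of k)) = Spec.map (CommRingCat.ofHom (algebraMap k P.O)) ∧
        l.base (IsLocalRing.closedPoint P.O) = z := by
    intro z _ hz
    let φ : X.presheaf.stalk z →+* P.O := (algebraMap (X.presheaf.stalk z) X.functionField).codRestrict P.O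
      fun a => hz ▸ (placeOf_le_one_iff z _).2 ⟨a, rfl⟩
    haveI : IsLocalHom φ := ⟨fun a ha => by
      by_contra hna
      have h1 := (placeOf_lt_one_iff (k := k) z a).2 hna
      rw [hz] at h1
      obtain ⟨u, hu⟩ := ha
      have h2 : P.1 (u : P.O) = 1 := (Valuation.integer.integers P.1).valuation_unit u
      rw [show ((u : P.O) : X.functionField) = algebraMap (X.presheaf.stalk z) X.functionField a from congrArg Subtype.val hu] at h2
      exact h1.ne h2⟩
    refine ⟨Spec.map (CommRingCat.ofHom φ) ≫ X.fromSpecStalk z, ?_, ?_, ?_⟩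
    · rw [← Spec.map_comp_assoc]
      exact (congrArg (fun r => Spec.map r ≫ X.fromSpecStalk z) (rfl : CommRingCat.ofHom φ ≫
        CommRingCat.ofHom (algebraMap P.O X.functionField) = X.presheaf.stalkSpecializes (eta_spec z))).trans
          (Scheme.SpecMap_stalkSpecializes_fromSpecStalk (eta_spec z))
    · rw [Category.assoc, show X.fromSpecStalk z ≫ (X ↘ Spec (CommRingCat.of k)) =
        Spec.map (CommRingCat.ofHom (Curv2.stalkMap k X z)) from ?_, ← Spec.map_comp]
      · exact congrArg Spec.map (CommRingCat.hom_ext (RingHom.ext fun c => Subtype.ext (algebraMap_stalkMap z c)))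
      · exact fromSpecStalk_comp_over z
    · rw [Scheme.Hom.comp_apply]
      exact (congrArg (X.fromSpecStalk z).base (IsLocalRing.comap_closedPoint φ)).trans Scheme.fromSpecStalk_closedPoint
  obtain ⟨l₁, h₁, h₁', hl₁⟩ := hsp x rfl
  obtain ⟨l₂, h₂, h₂', hl₂⟩ := hsp y h.symm
  let S : ValuativeCommSq (X ↘ Spec (CommRingCat.of k)) :=
    { R := P.O, K := X.functionField, i₁ := X.fromSpecStalk (genericPoint X)
      i₂ := Spec.map (CommRingCat.ofHom (algebraMap k P.O))
      commSq := ⟨by rw [← h₁, Category.assoc, h₁']⟩ }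
  have hu : ValuativeCriterion.Uniqueness (X ↘ Spec (CommRingCat.of k)) := by
    have : IsSeparated (X ↘ Spec (CommRingCat.of k)) := inferInstance
    rw [IsSeparated.eq_valuativeCriterion] at this
    exact this.1
  have := (hu S).elim ⟨l₁, h₁, h₁'⟩ ⟨l₂, h₂, h₂'⟩
  exact hne (hl₁.symm.trans ((congrArg (fun m => m.l.base (IsLocalRing.closedPoint P.O)) this).trans hl₂))

include hX in
/-- every place is the place of a closed point -/
theorem exists_placeOf (P : FunFld.Place k X.functionField) :
    ∃ (x : X) (_ : IsDiscreteValuationRing (X.presheaf.stalk x)), x ≠ genericPoint X ∧ placeOf (k := k) x = P := by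
  haveI := hX.1
  have hH : ValuativeCriterion.Existence (X ↘ Spec (CommRingCat.of k)) := by
    have : IsProper (X ↘ Spec (CommRingCat.of k)) := inferInstance
    rw [IsProper.eq_valuativeCriterion] at this
    exact ValuativeCriterion.existence this.1.1.1
  have hc : X.fromSpecStalk (genericPoint X) ≫ (X ↘ Spec (CommRingCat.of k)) =
      Spec.map (CommRingCat.ofHom (algebraMap P.O X.functionField)) ≫ Spec.map (CommRingCat.ofHom (algebraMap k P.O)) := by
    rw [← Spec.map_comp]
    exact fromSpecStalk_comp_over (genericPoint X)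
  let S : ValuativeCommSq (X ↘ Spec (CommRingCat.of k)) :=
    { R := P.O, K := X.functionField, i₁ := X.fromSpecStalk (genericPoint X)
      i₂ := Spec.map (CommRingCat.ofHom (algebraMap k P.O)), commSq := ⟨hc⟩ }
  obtain ⟨⟨l, hl, -⟩⟩ := (hH S).1
  obtain ⟨⟨x, φ, hφ⟩, rfl⟩ := (SpecToEquivOfLocalRing X (CommRingCat.of P.O)).symm.surjective l
  have hfac : X.presheaf.stalkSpecializes (eta_spec x) = φ ≫ CommRingCat.ofHom (algebraMap P.O X.functionField) := by
    apply Spec.map_injective
    rw [← cancel_mono (X.fromSpecStalk x), Scheme.SpecMap_stalkSpecializes_fromSpecStalk, Spec.map_comp]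
    exact (hl.symm.trans (Category.assoc _ _ _).symm)
  have hmem : ∀ a : X.presheaf.stalk x, P.1 (algebraMap (X.presheaf.stalk x) X.functionField a) ≤ 1 := fun a => by
    rw [show algebraMap (X.presheaf.stalk x) X.functionField a = ((φ a : P.O) : X.functionField) from
      congrArg (fun r => CommRingCat.Hom.hom r a) hfac]
    exact (φ a : P.O).2
  have hne : x ≠ genericPoint X := by
    rintro rfl
    obtain ⟨t, ht⟩ := P.2.2 (exp (1 : ℤ))
    have h1 : P.1 t ≤ 1 := by
      have hid : X.presheaf.stalkSpecializes (eta_spec (genericPoint X)) = 𝟙 _ := by simp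
      rw [hid] at hfac
      rw [show t = ((φ t : P.O) : X.functionField) from congrArg (fun r => CommRingCat.Hom.hom r t) hfac]
      exact (φ t : P.O).2
    rw [ht, ← exp_zero, exp_le_exp] at h1
    omega
  haveI := isDVR hX x hne
  refine ⟨x, inferInstance, hne, FunFldLib.eq_of_forall_le_one fun y hy => ?_⟩
  obtain ⟨a, rfl⟩ := (placeOf_le_one_iff x y).1 hy
  exact hmem a

end Curve

end Groth.Agent.CurveFF
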