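import Groth.Agent.CurveFF.Field
import Groth.Agent.FunFldLib.ZetaCount
import Groth.Prelude.Def_SgaExt
import Mathlib.FieldTheory.Finite.GaloisField
import Mathlib.AlgebraicGeometry.ResidueField

/-!
# Points of a curve with values in a finite field, counted by places
-/

noncomputable section

set_option autoImplicit false
set_option backward.isDefEq.respectTransparency.types false
set_option linter.style.haveILetI false

universe u

open CategoryTheory CategoryTheory.Limits AlgebraicGeometry Opposite TopologicalSpace WithZero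

namespace Groth.Agent.CurveFF

variable {k : Type u} [Field k] {X : Scheme.{u}} [X.Over (Spec (CommRingCat.of k))]

attribute [local instance] Curv2.resAlgebra

omit [X.Over (Spec (CommRingCat.of k))] in
theorem residue_surjective (x : X) : Function.Surjective (X.residue x) := IsLocalRing.residue_surjective

theorem fromSpecResidueField_comp_over [IsIntegral X] (x : X) :
    X.fromSpecResidueField x ≫ (X ↘ Spec (CommRingCat.of k)) =
      Spec.map (CommRingCat.ofHom (Curv2.resMap k X x)) := by
  rw [show X.fromSpecResidueField x = Spec.map (X.residue x) ≫ X.fromSpecStalk x from rfl, Category.assoc,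
    fromSpecStalk_comp_over, ← Spec.map_comp]
  rfl

/-- `k'`-points as pairs of a point and an embedding of its residue field -/
def pointsEquiv [IsIntegral X] (k' : Type u) [Field k'] [Algebra k k'] :
    {g : Spec (CommRingCat.of k') ⟶ X //
      g ≫ (X ↘ Spec (CommRingCat.of k)) = Spec.map (CommRingCat.ofHom (algebraMap k k'))} ≃
      Σ x : X, (X.residueField x →ₐ[k] k') :=
  have key : ∀ (x : X) (φ : X.residueField x ⟶ CommRingCat.of k'),
      (Spec.map φ ≫ X.fromSpecResidueField x) ≫ (X ↘ Spec (CommRingCat.of k)) =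
        Spec.map (CommRingCat.ofHom (algebraMap k k')) ↔
      ∀ c, φ.hom (Curv2.resMap k X x c) = algebraMap k k' c := by
    intro x φ
    rw [Category.assoc, fromSpecResidueField_comp_over, ← Spec.map_comp, Spec.map_inj]
    exact ⟨fun h c => congrArg (fun r => r.hom c) h, fun h => CommRingCat.hom_ext (RingHom.ext h)⟩
  { toFun := fun g => ⟨(Scheme.SpecToEquivOfField k' X g.1).1,
      ⟨(Scheme.SpecToEquivOfField k' X g.1).2.hom, (key _ _).1 (by
        have h := (Scheme.SpecToEquivOfField k' X).symm_apply_apply g.1
        exact (congrArg (· ≫ (X ↘ Spec (CommRingCat.of k))) h).trans g.2)⟩⟩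
    invFun := fun t => ⟨(Scheme.SpecToEquivOfField k' X).symm ⟨t.1, CommRingCat.ofHom t.2.toRingHom⟩,
      (key _ _).2 t.2.commutes⟩
    left_inv := fun g => Subtype.ext ((Scheme.SpecToEquivOfField k' X).symm_apply_apply g.1)
    right_inv := fun t => by
      have inj : Function.Injective (fun t : Σ x : X, (X.residueField x →ₐ[k] k') =>
          (⟨t.1, CommRingCat.ofHom t.2.toRingHom⟩ : Σ x : X, X.residueField x ⟶ CommRingCat.of k')) := by
        rintro ⟨x, a⟩ ⟨y, b⟩ h
        obtain rfl : x = y := congrArg Sigma.fst h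
        exact congrArg (Sigma.mk x) (AlgHom.ext fun c =>
          congrArg (fun r => CommRingCat.Hom.hom r c) (eq_of_heq (Sigma.mk.inj h).2))
      exact inj ((Scheme.SpecToEquivOfField k' X).apply_symm_apply ⟨t.1, CommRingCat.ofHom t.2.toRingHom⟩) }

section

variable [IsIntegral X] (hX : Curve.IsSmoothProperCurve k X (X ↘ Spec (CommRingCat.of k)))

attribute [local instance] ffAlg

include hX in
theorem generic_isEmpty (k' : Type u) [Field k'] [Algebra k k'] [FiniteDimensional k k'] :
    IsEmpty (X.residueField (genericPoint X) →ₐ[k] k') := by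
  refine ⟨fun φ => ?_⟩
  obtain ⟨y, hy, -⟩ := isFF hX
  refine hy ?_
  let r : X.functionField →ₐ[k] X.residueField (genericPoint X) :=
    { (X.residue (genericPoint X)).hom with commutes' := fun _ => rfl }
  exact (isAlgebraic_algHom_iff (φ.comp r) (φ.comp r).toRingHom.injective).1 (Algebra.IsAlgebraic.isAlgebraic _)

/-- the closed point of a place -/
def ptOf (P : FunFld.Place k X.functionField) : X := (exists_placeOf hX P).choose

include hX in
theorem ptOf_ne (P : FunFld.Place k X.functionField) : ptOf hX P ≠ genericPoint X :=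
  (exists_placeOf hX P).choose_spec.choose_spec.1

include hX in
theorem deg_eq (P : FunFld.Place k X.functionField) :
    P.deg = Module.finrank k (X.residueField (ptOf hX P)) := by
  obtain ⟨hd, -, h⟩ := (exists_placeOf hX P).choose_spec
  exact (congrArg FunFld.Place.deg h).symm.trans (placeOf_deg _)

include hX in
theorem ptOf_injective : Function.Injective (ptOf hX) := by
  intro P Q h
  obtain ⟨hP, -, eP⟩ := (exists_placeOf hX P).choose_spec
  obtain ⟨hQ, -, eQ⟩ := (exists_placeOf hX Q).choose_spec
  rw [← eP, ← eQ]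
  have aux : ∀ (x y : X) (a : IsDiscreteValuationRing (X.presheaf.stalk x))
      (b : IsDiscreteValuationRing (X.presheaf.stalk y)), x = y →
      @placeOf k _ X _ _ x a = @placeOf k _ X _ _ y b := by
    rintro x _ a b rfl
    rfl
  exact aux _ _ hP hQ h

include hX in
theorem exists_ptOf {x : X} (hx : x ≠ genericPoint X) : ∃ P, ptOf hX P = x := by
  haveI := isDVR hX x hx
  obtain ⟨hd, -, h⟩ := (exists_placeOf hX (placeOf (k := k) x)).choose_spec
  exact ⟨_, @placeOf_injective k _ X _ _ hX _ x hd _ h⟩

include hX in
theorem isClosed_ptOf (P : FunFld.Place k X.functionField) : IsClosed ({ptOf hX P} : Set X) :=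
  isClosed_singleton hX (ptOf_ne hX P)

include hX in
theorem finiteDimensional_residue (P : FunFld.Place k X.functionField) :
    FiniteDimensional k (X.residueField (ptOf hX P)) :=
  Module.finite_of_finrank_pos (deg_eq hX P ▸ FunFldLib.deg_pos (isFF hX) P)

include hX in
theorem pointCount_eq [Finite k] (k' : Type u) [Field k'] [Algebra k k'] [Finite k'] :
    SgaExt.pointCount (X ↘ Spec (CommRingCat.of k)) k' =
      FunFldLib.NN k X.functionField (Module.finrank k k') := by
  classical
  set n := Module.finrank k k' with hn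
  have hn0 : 0 < n := Module.finrank_pos
  set S := {P : FunFld.Place k X.functionField | P.deg ∣ n}
  have hS : S.Finite := (FunFldLib.finite_places_deg_le (isFF hX) n).subset fun P hP => Nat.le_of_dvd hn0 hP
  haveI := hS.fintype
  haveI : ∀ P, FiniteDimensional k (X.residueField (ptOf hX P)) := finiteDimensional_residue hX
  haveI : ∀ P, Finite (X.residueField (ptOf hX P)) := fun P => Module.finite_of_finite k
  let F : (Σ P : S, (X.residueField (ptOf hX P) →ₐ[k] k')) → Σ x : X, (X.residueField x →ₐ[k] k') :=
    fun t => ⟨ptOf hX t.1.1, t.2⟩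
  have hF : Function.Bijective F := by
    refine ⟨?_, ?_⟩
    · rintro ⟨⟨P, hP⟩, a⟩ ⟨⟨Q, hQ⟩, b⟩ h
      obtain rfl := ptOf_injective hX (congrArg Sigma.fst h)
      obtain rfl := eq_of_heq (Sigma.mk.inj h).2
      rfl
    · rintro ⟨x, φ⟩
      have hx : x ≠ genericPoint X := fun h => by
        subst h
        exact (generic_isEmpty hX k').false φ
      obtain ⟨P, rfl⟩ := exists_ptOf hX hx
      exact ⟨⟨⟨P, show P.deg ∣ n from deg_eq hX P ▸ FiniteField.nonempty_algHom_iff_finrank_dvd.1 ⟨φ⟩⟩, φ⟩, rfl⟩
  have hc : ∀ P : S, Nat.card (X.residueField (ptOf hX P.1) →ₐ[k] k') = P.1.deg := fun P =>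
    (FiniteField.natCard_algHom_of_finrank_dvd (deg_eq hX P.1 ▸ P.2)).trans (deg_eq hX P.1).symm
  haveI : ∀ P : S, Finite (X.residueField (ptOf hX P.1) →ₐ[k] k') := fun P =>
    Nat.finite_of_card_ne_zero (hc P ▸ (FunFldLib.deg_pos (isFF hX) P.1).ne')
  rw [SgaExt.pointCount, Nat.card_congr (pointsEquiv k'), ← Nat.card_congr (Equiv.ofBijective F hF),
    Nat.card_sigma, Finset.sum_congr rfl (fun P _ => hc P), FunFldLib.NN, finsum_mem_eq_finite_toFinset_sum _ hS]
  exact (Finset.sum_subtype hS.toFinset (fun _ => hS.mem_toFinset) (fun P => P.deg)).symm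

end

end Groth.Agent.CurveFF
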