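import Groth.Agent.CurveFF.Basic
import Groth.Agent.CDivLib.Basic
import Groth.Agent.FunFldLib.Divisor
import Mathlib.RingTheory.Spectrum.Prime.Noetherian
import Mathlib.AlgebraicGeometry.Geometrically.Irreducible
import Mathlib.AlgebraicGeometry.Morphisms.UnderlyingMap
import Mathlib.RingTheory.Algebraic.Integral
import Mathlib.FieldTheory.Finite.Extension

/-!
# The function field of a smooth proper curve is a function field of one variable
-/

noncomputable section

set_option autoImplicit false
set_option backward.isDefEq.respectTransparency.types false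
set_option linter.style.haveILetI false

universe u

open CategoryTheory CategoryTheory.Limits AlgebraicGeometry Opposite TopologicalSpace WithZero
open scoped TensorProduct

namespace Groth.Agent.CurveFF

variable {k : Type u} [Field k] {X : Scheme.{u}} [X.Over (Spec (CommRingCat.of k))] [IsIntegral X]

attribute [local instance] ffAlg

/-- a rational function regular at every point of `W` comes from a section over `W` -/
theorem exists_section (W : X.Opens) [Nonempty W] (y : X.functionField)
    (h : ∀ x ∈ W, ∃ a : X.presheaf.stalk x, algebraMap (X.presheaf.stalk x) X.functionField a = y) :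
    ∃ s : Γ(X, W), X.germToFunctionField W s = y := by
  have hloc : ∀ x : W, ∃ (V : X.Opens) (hx : (x : X) ∈ V) (s : Γ(X, V)), V ≤ W ∧
      X.presheaf.germ V (genericPoint X) ((eta_spec (x : X)).mem_open V.2 hx) s = y := by
    intro x
    obtain ⟨a, ha⟩ := h x x.2
    obtain ⟨V, hxV, t, rfl⟩ := X.presheaf.exists_germ_eq a
    rw [algebraMap_germ] at ha
    refine ⟨V ⊓ W, ⟨hxV, x.2⟩, X.presheaf.map (homOfLE inf_le_left).op t, inf_le_right, ?_⟩
    rw [TopCat.Presheaf.germ_res_apply]
    exact ha
  choose V hxV s hVW hs using hloc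
  have hcompat : TopCat.Presheaf.IsCompatible X.sheaf.1 V s := by
    intro i j
    refine germ_injective_of_isIntegral X (genericPoint X)
      (show genericPoint X ∈ V i ⊓ V j from ⟨(eta_spec _).mem_open (V i).2 (hxV i), (eta_spec _).mem_open (V j).2 (hxV j)⟩) ?_
    change X.presheaf.germ _ _ _ (X.presheaf.map _ _) = X.presheaf.germ _ _ _ (X.presheaf.map _ _)
    rw [TopCat.Presheaf.germ_res_apply, TopCat.Presheaf.germ_res_apply]
    exact (hs i).trans (hs j).symm
  obtain ⟨g, hg, -⟩ := X.sheaf.existsUnique_gluing' V W (fun x => homOfLE (hVW x))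
    (fun z hz => Opens.mem_iSup.2 ⟨⟨z, hz⟩, hxV _⟩) s hcompat
  obtain ⟨x⟩ := ‹Nonempty W›
  refine ⟨g, ?_⟩
  rw [← hs x, ← hg x]
  exact (TopCat.Presheaf.germ_res_apply X.presheaf (homOfLE (hVW x)) (genericPoint X) _ g).symm

variable (hX : Curve.IsSmoothProperCurve k X (X ↘ Spec (CommRingCat.of k)))

include hX in
theorem exists_ne_generic : ∃ x : X, x ≠ genericPoint X := by
  by_contra! h
  haveI : Subsingleton X := ⟨fun a b => (h a).trans (h b).symm⟩
  have h0 : topologicalKrullDim X ≤ 0 := topologicalKrullDim_zero_of_discreteTopology X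
  rw [hX.2.2.2] at h0
  exact absurd h0 (by norm_num)

include hX in
theorem isFF : FunFldLib.IsFF k X.functionField := by
  haveI := hX.1
  obtain ⟨x, hx⟩ := exists_ne_generic hX
  obtain ⟨U, hU, hxU, -⟩ := exists_isAffineOpen_mem_and_subset (U := (⊤ : X.Opens)) (x := x) trivial
  have hηU : genericPoint X ∈ U := (eta_spec x).mem_open U.2 hxU
  haveI : Nonempty U := ⟨⟨x, hxU⟩⟩
  letI : Algebra k Γ(X, U) :=
    ((X.presheaf.map (homOfLE le_top).op).hom.comp (Coh.toGlobal (X ↘ Spec (CommRingCat.of k)))).toAlgebra
  haveI : IsScalarTower k Γ(X, U) X.functionField := IsScalarTower.of_algebraMap_eq fun c =>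
    (TopCat.Presheaf.germ_res_apply X.presheaf (homOfLE le_top) (genericPoint X) hηU _).symm
  haveI hfr : IsFractionRing Γ(X, U) X.functionField := functionField_isFractionRing_of_isAffineOpen X U hU
  haveI : Algebra.FiniteType k Γ(X, U) := by
    have h1 := (X ↘ Spec (CommRingCat.of k)).finiteType_appLE (isAffineOpen_top _) hU le_top
    exact RingHom.finiteType_algebraMap.1 (h1.comp (RingHom.FiniteType.of_surjective _
      (Scheme.ΓSpecIso (CommRingCat.of k)).symm.commRingCatIsoToRingEquiv.surjective))
  obtain ⟨n, g, hg, hfin, hdim⟩ := DimTheory.exists_normalization k Γ(X, U)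
  have hn1 : n ≤ 1 := by
    have h2 : ringKrullDim Γ(X, U) ≤ 1 := by
      rw [← PrimeSpectrum.topologicalKrullDim_eq_ringKrullDim]
      exact (hU.fromSpec.isOpenEmbedding.isEmbedding.isInducing.topologicalKrullDim_le).trans (dim_le hX)
    rw [hdim] at h2
    exact_mod_cast h2
  have hn0 : n ≠ 0 := by
    intro hn
    subst hn
    have hne : hU.primeIdealOf ⟨genericPoint X, hηU⟩ ≠ hU.primeIdealOf ⟨x, hxU⟩ := fun h => by
      have h2 := congrArg hU.fromSpec h
      rw [hU.fromSpec_primeIdealOf, hU.fromSpec_primeIdealOf] at h2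
      exact hx h2.symm
    haveI : Ring.KrullDimLE 0 Γ(X, U) :=
      Ring.krullDimLE_iff.2 (le_of_eq hdim)
    have hbot := Ideal.isMaximal_of_isPrime (⊥ : Ideal Γ(X, U))
    have heq : ∀ p : PrimeSpectrum Γ(X, U), p.asIdeal = ⊥ := fun p => (hbot.eq_of_le p.2.ne_top bot_le).symm
    exact hne (PrimeSpectrum.ext ((heq _).trans (heq _).symm))
  obtain rfl : n = 1 := by omega
  let t : Γ(X, U) := g (MvPolynomial.X 0)
  have hinjA : Function.Injective (algebraMap Γ(X, U) X.functionField) := IsFractionRing.injective _ _
  have htA : Transcendental k t := fun h => MvPolynomial.transcendental_X k 0 ((isAlgebraic_algHom_iff g hg).1 h)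
  refine ⟨algebraMap Γ(X, U) X.functionField t,
    (transcendental_algebraMap_iff hinjA).2 htA, ?_⟩
  set E := IntermediateField.adjoin k ({algebraMap Γ(X, U) X.functionField t} : Set X.functionField) with hE
  -- the image of the polynomial ring lands in `E`
  have hrange : ∀ p, algebraMap Γ(X, U) X.functionField (g p) ∈ E := by
    intro p
    induction p using MvPolynomial.induction_on with
    | C c =>
      rw [← MvPolynomial.algebraMap_eq, AlgHom.commutes, ← IsScalarTower.algebraMap_apply]
      exact E.algebraMap_mem c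
    | add p q hp hq => rw [map_add, map_add]; exact E.add_mem hp hq
    | mul_X p i hp =>
      rw [map_mul, map_mul, Subsingleton.elim i 0]
      exact E.mul_mem hp (IntermediateField.subset_adjoin k _ rfl)
  let φ : MvPolynomial (Fin 1) k →+* E :=
    (((algebraMap Γ(X, U) X.functionField).comp g.toRingHom).codRestrict E hrange)
  have hint : ∀ a : Γ(X, U), IsIntegral E (algebraMap Γ(X, U) X.functionField a) := by
    intro a
    obtain ⟨p, hpm, hp⟩ := hfin.to_isIntegral a
    refine ⟨p.map φ, hpm.map φ, ?_⟩
    rw [Polynomial.eval₂_map]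
    show Polynomial.eval₂ ((algebraMap Γ(X, U) X.functionField).comp g.toRingHom) _ p = 0
    rw [← Polynomial.hom_eval₂, hp, map_zero]
  obtain ⟨S, hS⟩ := (Algebra.FiniteType.out : (⊤ : Subalgebra k Γ(X, U)).FG)
  classical
  let S' : Set X.functionField := ↑(S.image (algebraMap Γ(X, U) X.functionField))
  haveI : FiniteDimensional E (IntermediateField.adjoin E S') :=
    IntermediateField.finiteDimensional_adjoin fun z hz => by
      obtain ⟨a, -, rfl⟩ := Finset.mem_image.1 (Finset.mem_coe.1 hz)
      exact hint a
  have hA : ∀ a : Γ(X, U), algebraMap Γ(X, U) X.functionField a ∈ IntermediateField.adjoin E S' := by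
    intro a
    have ha : a ∈ Algebra.adjoin k (S : Set Γ(X, U)) := hS ▸ Algebra.mem_top
    induction ha using Algebra.adjoin_induction with
    | mem b hb => exact IntermediateField.subset_adjoin E S' (Finset.mem_image_of_mem _ hb)
    | algebraMap c =>
      rw [← IsScalarTower.algebraMap_apply, IsScalarTower.algebraMap_apply k E X.functionField]
      exact (IntermediateField.adjoin E S').algebraMap_mem _
    | add b c _ _ hb hc => rw [map_add]; exact add_mem hb hc
    | mul b c _ _ hb hc => rw [map_mul]; exact mul_mem hb hc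
  have htop : IntermediateField.adjoin E S' = ⊤ := by
    refine eq_top_iff.2 fun z _ => ?_
    obtain ⟨a, b, -, rfl⟩ := IsFractionRing.div_surjective (A := Γ(X, U)) z
    exact div_mem (hA a) (hA b)
  exact Module.Finite.equiv ((IntermediateField.equivOfEq htop).trans IntermediateField.topEquiv).toLinearEquiv

include hX in
theorem exists_global_section {y : X.functionField} (hy : IsAlgebraic k y) :
    ∃ s : Γ(X, (⊤ : X.Opens)), X.presheaf.germ ⊤ (genericPoint X) trivial s = y := by
  haveI : Nonempty (⊤ : X.Opens) := ⟨⟨genericPoint X, trivial⟩⟩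
  refine exists_section ⊤ y fun x _ => ?_
  by_cases hx : x = genericPoint X
  · subst hx
    exact CDivLib.inStalk_genericPoint X y
  · haveI := isDVR hX x hx
    rcases eq_or_ne y 0 with rfl | h0
    · exact ⟨0, map_zero _⟩
    · exact (placeOf_le_one_iff x y).1
        (FunFldLib.val_eq_one_of_isAlgebraic (placeOf (k := k) x).1 (placeOf (k := k) x).2.1 h0 hy).le

include hX in
/-- geometric irreducibility makes `k` algebraically closed in the function field -/
theorem isFunctionField [Finite k] [GeometricallyIrreducible (X ↘ Spec (CommRingCat.of k))] :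
    FunFld.IsFunctionField k X.functionField := by
  have hFF := isFF hX
  refine ⟨hFF, fun y hy => ?_⟩
  set k1 : IntermediateField k X.functionField := algebraicClosure k X.functionField
  haveI hfin0 := FunFldLib.finite_L_zero hFF
  haveI : FiniteDimensional k k1 := by
    refine FiniteDimensional.of_injective
      (LinearMap.codRestrict (FunFld.L (0 : FunFld.Divisor k X.functionField)) k1.val.toLinearMap fun z P => ?_)
      (fun a b h => Subtype.ext (by simpa using Subtype.ext_iff.1 h))
    rw [Finsupp.zero_apply, exp_zero]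
    rcases eq_or_ne z 0 with rfl | h0
    · simp
    · exact (FunFldLib.val_eq_one_of_isAlgebraic P.1 P.2.1
        (fun e => h0 (Subtype.ext e)) (mem_algebraicClosure_iff.1 z.2)).le
  haveI : Finite k1 := Module.finite_of_finite k
  have hd : Module.finrank k k1 = 1 := by
    by_contra hd
    let G : Γ(X, (⊤ : X.Opens)) →+* X.functionField := (X.presheaf.germ ⊤ (genericPoint X) trivial).hom
    have hG : Function.Injective G := germ_injective_of_isIntegral X _ _
    let e := RingEquiv.ofBijective G.rangeRestrict
      ⟨fun a b h => hG (congrArg Subtype.val h), G.rangeRestrict_surjective⟩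
    let ψ : k1 →+* Γ(X, (⊤ : X.Opens)) := e.symm.toRingHom.comp
      (k1.val.toRingHom.codRestrict G.range fun z =>
        (exists_global_section hX (mem_algebraicClosure_iff.1 z.2)).imp fun s hs => hs)
    have hψ : ∀ z, G (ψ z) = z := fun z => congrArg Subtype.val (e.apply_symm_apply _)
    let π : X ⟶ Spec (CommRingCat.of k1) := X.toSpecΓ ≫ Spec.map (CommRingCat.ofHom ψ)
    have hπ : π ≫ Spec.map (CommRingCat.ofHom (algebraMap k k1)) = (X ↘ Spec (CommRingCat.of k)) := by
      rw [over_eq (k := k) (X := X), Category.assoc, ← Spec.map_comp]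
      congr 2
      exact CommRingCat.hom_ext (RingHom.ext fun c => hG ((hψ _).trans rfl))
    set a := Spec.map (CommRingCat.ofHom (algebraMap k k1)) with ha
    haveI : Surjective π := ⟨fun p => ⟨genericPoint X, Subsingleton.elim _ _⟩⟩
    haveI hirr : IrreducibleSpace ↥(pullback (X ↘ Spec (CommRingCat.of k)) a) :=
      geometrically_iff_of_isClosedUnderIsomorphisms.mp
        ‹GeometricallyIrreducible (X ↘ Spec (CommRingCat.of k))›.geometrically_irreducibleSpace k1 a
    let m := pullback.map (X ↘ Spec (CommRingCat.of k)) a a a π (𝟙 _) (𝟙 _) (by simp [hπ]) (by simp)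
    haveI : Surjective m := MorphismProperty.pullbackMap (P := @Surjective) ‹Surjective π›
      (inferInstanceAs (Surjective (𝟙 _))) hπ.symm (by simp)
    haveI : Surjective (m ≫ (pullbackSpecIso k k1 k1).hom) := inferInstance
    haveI hT : IrreducibleSpace (PrimeSpectrum (TensorProduct k k1 k1)) :=
      (m ≫ (pullbackSpecIso k k1 k1).hom).surjective.irreducibleSpace
        (m ≫ (pullbackSpecIso k k1 k1).hom).continuous
    haveI : IsArtinianRing (TensorProduct k k1 k1) := .of_finite k (TensorProduct k k1 k1)
    haveI : Subsingleton (PrimeSpectrum (TensorProduct k k1 k1)) := by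
      haveI : PreirreducibleSpace (PrimeSpectrum (TensorProduct k k1 k1)) := hT.toPreirreducibleSpace
      haveI : DiscreteTopology (PrimeSpectrum (TensorProduct k k1 k1)) := @IsArtinianRing.instDiscreteTopologyPrimeSpectrum (TensorProduct k k1 k1) _ ‹_›
      exact ⟨fun p q => by
        by_contra hne
        obtain ⟨r, -, h1, h2⟩ := PreirreducibleSpace.isPreirreducible_univ {p} {q} (isOpen_discrete _) (isOpen_discrete _)
          ⟨p, trivial, rfl⟩ ⟨q, trivial, rfl⟩
        exact hne (h1.symm.trans h2)⟩
    have hcard : Nat.card (k1 →ₐ[k] k1) = Module.finrank k k1 :=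
      FiniteField.natCard_algHom_of_finrank_dvd dvd_rfl
    haveI : Finite (k1 →ₐ[k] k1) :=
      Nat.finite_of_card_ne_zero (hcard ▸ Module.finrank_pos.ne')
    obtain ⟨σ, hσ⟩ : ∃ σ : k1 →ₐ[k] k1, σ ≠ AlgHom.id k k1 := by
      by_contra! h
      haveI : Subsingleton (k1 →ₐ[k] k1) := ⟨fun a b => (h a).trans (h b).symm⟩
      have := Nat.card_of_subsingleton (AlgHom.id k k1)
      omega
    let φ1 : TensorProduct k k1 k1 →ₐ[k] k1 :=
      Algebra.TensorProduct.lift (AlgHom.id k k1) (AlgHom.id k k1) fun _ _ => Commute.all _ _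
    let φ2 : TensorProduct k k1 k1 →ₐ[k] k1 :=
      Algebra.TensorProduct.lift σ (AlgHom.id k k1) fun _ _ => Commute.all _ _
    refine hσ (AlgHom.ext fun c => ?_)
    have hmem : c ⊗ₜ[k] (1 : k1) - 1 ⊗ₜ[k] c ∈ RingHom.ker φ1 := by simp [φ1]
    have hker : RingHom.ker φ1 = RingHom.ker φ2 :=
      congrArg PrimeSpectrum.asIdeal (Subsingleton.elim
        (⟨RingHom.ker φ1, RingHom.ker_isPrime φ1⟩ : PrimeSpectrum (TensorProduct k k1 k1))
        ⟨RingHom.ker φ2, RingHom.ker_isPrime φ2⟩)
    rw [hker] at hmem
    simpa [φ2, sub_eq_zero] using hmem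
  have hbot : k1 = ⊥ := IntermediateField.finrank_eq_one_iff.1 hd
  have hy1 : y ∈ k1 := mem_algebraicClosure_iff.2 hy
  rw [hbot] at hy1
  exact IntermediateField.mem_bot.1 hy1

end Groth.Agent.CurveFF
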