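import Groth.Agent.CurveQProj.TwoCech

/-!
# `H¹` of a scheme covered by two affine opens, as functions on the overlap
-/

noncomputable section

set_option autoImplicit false
set_option backward.isDefEq.respectTransparency false
set_option backward.isDefEq.respectTransparency.types false
set_option linter.style.haveILetI false

universe u

open CategoryTheory CategoryTheory.Limits AlgebraicGeometry Opposite TopologicalSpace HomologicalComplex
open Groth.Agent.QCohBase Groth.Agent.CechLinear Groth.Agent.CurveQProj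

namespace Groth.Agent.CurveFF

/-- the class map on cycles in degree one -/
theorem exists_cycleMap' (K : CochainComplex AddCommGrpCat.{u} ℕ) :
    ∃ ψ : AddMonoidHom.ker (K.d 1 (1 + 1)).hom →+ K.homology 1, Function.Surjective ψ ∧
      (∀ (Φ : K ⟶ K) (z w : AddMonoidHom.ker (K.d 1 (1 + 1)).hom), w.1 = Φ.f 1 z.1 →
        ψ w = homologyMap Φ 1 (ψ z)) ∧
      ∀ z, ψ z = 0 ↔ ∃ u : K.X 0, K.d 0 1 u = z.1 := by
  let j : AddCommGrpCat.of (AddMonoidHom.ker (K.d 1 (1 + 1)).hom) ⟶ K.X 1 :=
    AddCommGrpCat.ofHom (AddSubgroup.subtype _)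
  have hj : j ≫ K.d 1 (1 + 1) = 0 := AddCommGrpCat.ext fun x => x.2
  let l := K.liftCycles j (1 + 1) (by simp) hj
  have hli : ∀ z, K.iCycles 1 (l z) = z.1 := fun z => by
    rw [← ConcreteCategory.comp_apply, liftCycles_i]
    rfl
  have hinj : Function.Injective (K.iCycles 1) := (AddCommGrpCat.mono_iff_injective _).1 inferInstance
  refine ⟨(l ≫ K.homologyπ 1).hom, fun y => ?_, fun Φ z w hw => ?_, fun z => ⟨fun hz => ?_, ?_⟩⟩
  · obtain ⟨c, hc⟩ := (AddCommGrpCat.epi_iff_surjective (K.homologyπ 1)).1 inferInstance y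
    have hck : K.iCycles 1 c ∈ AddMonoidHom.ker (K.d 1 (1 + 1)).hom := by
      show (K.iCycles 1 ≫ K.d 1 (1 + 1)) c = 0
      rw [iCycles_d]; rfl
    refine ⟨⟨K.iCycles 1 c, hck⟩, ?_⟩
    show K.homologyπ 1 (l ⟨K.iCycles 1 c, hck⟩) = y
    rw [show l ⟨K.iCycles 1 c, hck⟩ = c from hinj (hli _), hc]
  · show K.homologyπ 1 (l w) = homologyMap Φ 1 (K.homologyπ 1 (l z))
    rw [← ConcreteCategory.comp_apply (K.homologyπ 1), homologyπ_naturality,
      ConcreteCategory.comp_apply]
    refine congrArg (K.homologyπ 1) (hinj ?_)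
    rw [hli, ← ConcreteCategory.comp_apply (cyclesMap _ 1), cyclesMap_i, ConcreteCategory.comp_apply,
      hli]
    exact hw
  · have hex : (ShortComplex.mk (K.toCycles 0 1) (K.homologyπ 1) (K.toCycles_comp_homologyπ 0 1)).Exact :=
      ShortComplex.exact_of_g_is_cokernel _ (K.homologyIsCokernel 0 1 (by simp))
    obtain ⟨u, hu⟩ := ((ShortComplex.ab_exact_iff _).1 hex) (l z) hz
    refine ⟨u, ?_⟩
    rw [← hli z, ← hu, ← ConcreteCategory.comp_apply, toCycles_i]
  · rintro ⟨u, hu⟩
    show K.homologyπ 1 (l z) = 0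
    rw [show l z = K.toCycles 0 1 u from hinj ((hli _).trans (by
      rw [← ConcreteCategory.comp_apply, toCycles_i, hu])),
      ← ConcreteCategory.comp_apply, toCycles_comp_homologyπ]
    rfl

variable {X : Scheme.{u}} {k : Type u} [Field k] (A B : X.Opens)

theorem dCech_one {ι : Type u} {V : ι → X.Opens} (i : Fin 2 → ι)
    (w : cochain V (Coh.toAb (Coh.structureModule X)).obj (Fin 1)) (hV : ∀ a, inter V i ≤ inter V fun _ : Fin 1 => i a) :
    (show Γ(X, inter V i) from dCech V (Coh.toAb (Coh.structureModule X)).obj 0 w i) =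
      ores (hV 1) (w fun _ => i 1) - ores (hV 0) (w fun _ => i 0) := by
  let f : Fin 2 → Γ(X, inter V i) := fun a =>
    res (Coh.toAb (Coh.structureModule X)).obj (inter_comp_le V i a.succAbove) (w (i ∘ a.succAbove))
  show ∑ a : Fin 2, (-1 : ℤ) ^ (a : ℕ) • f a = _
  have key : ∀ (j j' : Fin 1 → ι), j = j' → ∀ (h₁ : inter V i ≤ inter V j)
      (h₂ : inter V i ≤ inter V j'), (ores h₁ (w j) : Γ(X, inter V i)) = ores h₂ (w j') := by
    rintro j _ rfl h₁ h₂; rfl
  have e0 : f 0 = ores (hV 1) (w fun _ => i 1) :=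
    key _ _ (funext fun a => by fin_cases a; rfl) _ _
  have e1 : f 1 = ores (hV 0) (w fun _ => i 0) :=
    key _ _ (funext fun a => by fin_cases a; rfl) _ _
  rw [Fin.sum_univ_two, e0, e1]
  simp only [Fin.val_zero, Fin.val_one, pow_zero, pow_one, one_smul, neg_smul, sub_eq_add_neg]

/-- A cocycle of a two-element cover is the alternating cochain of a function on the overlap. -/
theorem exists_edge_eq (z : cochain (twoCov A B) (Coh.toAb (Coh.structureModule X)).obj (Fin 2))
    (hz : dCech (twoCov A B) (Coh.toAb (Coh.structureModule X)).obj 1 z = 0) :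
    ∃ g : Γ(X, A ⊓ B), edge A B g = z := by
  let V := twoCov A B
  have hle : ∀ {W : X.Opens} {a b : ULift.{u} Bool}, W ≤ V a → W ≤ V b → W ≤ inter V ![a, b] :=
    fun ha hb => le_iInf fun s => by fin_cases s <;> assumption
  let val : ∀ (W : X.Opens) (a b : ULift.{u} Bool), W ≤ V a → W ≤ V b → Γ(X, W) := fun W a b ha hb =>
    ores (hle ha hb) (z ![a, b])
  have hcoc : ∀ (W : X.Opens) (a b c : ULift.{u} Bool) (ha : W ≤ V a) (hb : W ≤ V b) (hc : W ≤ V c),
      val W b c hb hc - val W a c ha hc + val W a b ha hb = 0 := by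
    intro W a b c ha hb hc
    let i : Fin 3 → ULift.{u} Bool := ![a, b, c]
    have hWi : W ≤ inter V i := le_iInf fun s => by fin_cases s <;> assumption
    let f : Fin 3 → Γ(X, inter V i) := fun s =>
      res (Coh.toAb (Coh.structureModule X)).obj (inter_comp_le V i s.succAbove) (z (i ∘ s.succAbove))
    have h0 : ∑ s : Fin 3, (-1 : ℤ) ^ (s : ℕ) • f s = 0 := congrFun hz i
    have key : ∀ (j j' : Fin 2 → ULift.{u} Bool), j = j' → ∀ (h₁ : W ≤ inter V j)
        (h₂ : W ≤ inter V j'), (ores h₁ (z j) : Γ(X, W)) = ores h₂ (z j') := by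
      rintro j _ rfl h₁ h₂; rfl
    have hf : ∀ s, ores hWi (f s) = ores (hWi.trans (inter_comp_le V i s.succAbove)) (z (i ∘ s.succAbove)) :=
      fun s => ores_ores _ _ _
    have e0 : ores hWi (f 0) = val W b c hb hc := (hf 0).trans
      (key _ _ (funext fun s => by fin_cases s <;> rfl) _ _)
    have e1 : ores hWi (f 1) = val W a c ha hc := (hf 1).trans
      (key _ _ (funext fun s => by fin_cases s <;> rfl) _ _)
    have e2 : ores hWi (f 2) = val W a b ha hb := (hf 2).trans
      (key _ _ (funext fun s => by fin_cases s <;> rfl) _ _)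
    have h1 := congrArg (ores hWi) h0
    rw [map_zero, Fin.sum_univ_three] at h1
    simp only [Fin.val_zero, Fin.val_one, Fin.val_two, map_add, map_zsmul, e0, e1, e2] at h1
    simpa [pow_two, sub_eq_add_neg] using h1
  have hdiag : ∀ W a ha, val W a a ha ha = 0 := fun W a ha => by
    simpa using hcoc W a a a ha ha ha
  have hswap : ∀ W a b ha hb, val W b a hb ha = - val W a b ha hb := fun W a b ha hb => by
    have := hcoc W a b a ha hb ha
    rw [hdiag W a ha, sub_zero] at this
    exact eq_neg_of_add_eq_zero_left this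
  let g : Γ(X, A ⊓ B) := val (A ⊓ B) ⟨false⟩ ⟨true⟩ inf_le_left inf_le_right
  refine ⟨g, funext fun i => ?_⟩
  have hi : ∀ s, inter V i ≤ V (i s) := fun s => iInf_le _ s
  have key2 : ∀ (j : Fin 2 → ULift.{u} Bool), i = j → ∀ h : inter V i ≤ inter V j,
      (show Γ(X, inter V i) from z i) = ores h (z j) := by
    rintro _ rfl h
    exact (congrArg (fun φ => φ.hom (z i)) (CategoryTheory.Functor.map_id X.presheaf _)).symm
  have hzi : (show Γ(X, inter V i) from z i) = val (inter V i) (i 0) (i 1) (hi 0) (hi 1) :=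
    key2 _ (funext fun s => by fin_cases s <;> rfl) _
  show (show Γ(X, inter V i) from edge A B g i) = (show Γ(X, inter V i) from z i)
  rw [hzi]
  unfold edge
  split_ifs with hd
  · have hg : ores (inter_le_inf A B i hd) g =
        val (inter V i) ⟨false⟩ ⟨true⟩ ((inter_le_inf A B i hd).trans inf_le_left)
          ((inter_le_inf A B i hd).trans inf_le_right) := ores_ores _ _ _
    show _ • ores _ g = _
    rw [hg]
    have aux : ∀ (a b : ULift.{u} Bool) (ha : inter V i ≤ V a) (hb : inter V i ≤ V b)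
        (hA : inter V i ≤ V ⟨false⟩) (hB : inter V i ≤ V ⟨true⟩), a ≠ b →
        (bval b.down - bval a.down) • val (inter V i) ⟨false⟩ ⟨true⟩ hA hB = val (inter V i) a b ha hb := by
      rintro ⟨_ | _⟩ ⟨_ | _⟩ ha hb hA hB hne
      · exact absurd rfl hne
      · simp [bval]
      · rw [hswap _ ⟨false⟩ ⟨true⟩ hA hB]
        simp [bval]
      · exact absurd rfl hne
    exact aux (i 0) (i 1) (hi 0) (hi 1) ((inter_le_inf A B i hd).trans inf_le_left)
      ((inter_le_inf A B i hd).trans inf_le_right) hd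
  · rw [not_not] at hd
    have aux : ∀ (a b : ULift.{u} Bool) (ha : inter V i ≤ V a) (hb : inter V i ≤ V b), a = b →
        val (inter V i) a b ha hb = 0 := by
      intro a b ha hb hab
      subst hab
      exact hdiag _ a ha
    exact (aux (i 0) (i 1) (hi 0) (hi 1) hd).symm

theorem exists_overlap_map [X.Over (Spec (CommRingCat.of k))] [IsProper (X ↘ Spec (CommRingCat.of k))]
    (hA : IsAffineOpen A) (hB : IsAffineOpen B) (hcov : A ⊔ B = ⊤) :
    ∃ L : Γ(X, A ⊓ B) →+ Coh.HH X (Coh.structureModule X) 1, Function.Surjective L ∧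
      (∀ (a : k) (g : Γ(X, A ⊓ B)), L (const (A ⊓ B) a * g) = a • L g) ∧
      ∀ g, L g = 0 ↔ ∃ (α : Γ(X, A)) (β : Γ(X, B)),
        g = ores (inf_le_left : A ⊓ B ≤ A) α + ores (inf_le_right : A ⊓ B ≤ B) β := by
  classical
  haveI : X.IsSeparated := ⟨by
    rw [← terminal.comp_from (X ↘ Spec (CommRingCat.of k))]
    infer_instance⟩
  let O := Coh.structureModule X
  haveI : Coh.IsQCoh O := TensorMod.isQCoh_structureModule X
  let V := twoCov A B
  have hV : ∀ (n : ℕ) (i : Fin (n + 1) → ULift.{u} Bool), IsAffineOpen (inter V i) :=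
    isAffineOpen_inter (by rintro ⟨_ | _⟩ <;> assumption)
  have hcov' : ⨆ i, V i = ⊤ := by
    refine le_antisymm le_top (hcov.ge.trans (sup_le ?_ ?_))
    · exact le_iSup V ⟨false⟩
    · exact le_iSup V ⟨true⟩
  obtain ⟨e, he⟩ := exists_cech_equiv V (S := affineSystem X) (acyclic_of_isQCoh O) hcov' hV 1
  obtain ⟨ψ, hsurj, hnat, hker⟩ := exists_cycleMap' (cech V (Coh.toAb O).obj)
  have hcyc : ∀ g : Γ(X, A ⊓ B),
      edge A B g ∈ AddMonoidHom.ker ((cech V (Coh.toAb O).obj).d 1 (1 + 1)).hom :=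
    fun g => (cech_d_apply V _ 1 _).trans (dCech_edge A B g)
  have hadd : ∀ g g', edge A B (g + g') = edge A B g + edge A B g' := fun g g' => funext fun i => by
    show _ = edge A B g i + edge A B g' i
    unfold edge
    split_ifs
    · show _ = (_ : Γ(X, inter (twoCov A B) i)) + _
      rw [map_add, smul_add]
    · exact (add_zero (0 : Γ(X, inter (twoCov A B) i))).symm
  have hsmul : ∀ (a : k) (g : Γ(X, A ⊓ B)), edge A B (const (A ⊓ B) a * g) = smulCoch V O a (edge A B g) :=
    fun a g => funext fun i => by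
    show (_ : Γ(X, inter (twoCov A B) i)) =
      const (inter (twoCov A B) i) a * (show Γ(X, inter (twoCov A B) i) from edge A B g i)
    unfold edge
    split_ifs
    · show _ • _ = _ * (_ : Γ(X, inter (twoCov A B) i))
      rw [map_mul, ores_const, mul_smul_comm]
    · exact (mul_zero _).symm
  let L : Γ(X, A ⊓ B) →+ Coh.HH X O 1 :=
    AddMonoidHom.mk' (fun g => e (ψ ⟨edge A B g, hcyc g⟩)) fun g g' => by
      rw [← map_add e, ← map_add ψ]
      exact congrArg (fun z => e (ψ z)) (Subtype.ext (hadd g g'))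
  refine ⟨L, fun y => ?_, fun a g => ?_, fun g => ⟨fun hg => ?_, ?_⟩⟩
  · obtain ⟨z, hz⟩ := hsurj (e.symm y)
    obtain ⟨g, hg⟩ := exists_edge_eq A B z.1 ((cech_d_apply V _ 1 _).symm.trans z.2)
    refine ⟨g, ?_⟩
    show e (ψ ⟨edge A B g, hcyc g⟩) = y
    rw [show (⟨edge A B g, hcyc g⟩ : AddMonoidHom.ker ((cech V (Coh.toAb O).obj).d 1 (1 + 1)).hom) = z from
      Subtype.ext hg, hz, e.apply_symm_apply]
  · show e (ψ _) = _
    rw [hnat ((cechSheafFunctor V).map (Coh.smulAb O (Coh.toGlobal (X ↘ Spec (CommRingCat.of k)) a)))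
      ⟨edge A B g, hcyc g⟩ ⟨edge A B (const (A ⊓ B) a * g), hcyc _⟩ (hsmul a g)]
    exact he _ _
  · obtain ⟨w, hw⟩ := (hker _).1 (e.injective (hg.trans (map_zero e).symm))
    rw [cech_d_apply] at hw
    let p : Fin 2 → ULift.{u} Bool := ![⟨false⟩, ⟨true⟩]
    let wA : Γ(X, A) := ores (le_iInf fun _ => le_rfl : A ≤ inter V fun _ : Fin 1 => ⟨false⟩) (w fun _ => ⟨false⟩)
    let wB : Γ(X, B) := ores (le_iInf fun _ => le_rfl : B ≤ inter V fun _ : Fin 1 => ⟨true⟩) (w fun _ => ⟨true⟩)
    have hp : A ⊓ B ≤ inter V p := le_iInf fun a => by fin_cases a; exacts [inf_le_left, inf_le_right]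
    refine ⟨-wA, wB, ?_⟩
    have e2 : ores hp (edge A B g p) = g := by
      refine (res_edge A B g p hp le_rfl).trans ?_
      rw [show (ores (le_refl (A ⊓ B))) g = g from congrArg (fun φ => φ g) (CategoryTheory.Functor.map_id X.presheaf _)]
      simp [p, bval]
    have h1 := dCech_one (V := V) p w fun a => le_iInf fun _ => iInf_le _ a
    rw [show (show Γ(X, inter V p) from dCech V (Coh.toAb O).obj 0 w p) = edge A B g p from congrFun hw p] at h1
    have h2 := congrArg (ores hp) h1
    rw [map_sub] at h2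
    refine e2.symm.trans (h2.trans ?_)
    rw [ores_ores, ores_ores, map_neg]
    simp only [wA, wB, ores_ores]
    show ores _ (w fun _ => (⟨true⟩ : ULift.{u} Bool)) - ores _ (w fun _ => (⟨false⟩ : ULift.{u} Bool)) = _
    exact sub_eq_neg_add _ _
  · rintro ⟨α, β, rfl⟩
    let wv : ∀ b : ULift.{u} Bool, Γ(X, V b) := fun b => match b with
      | ⟨false⟩ => (-α : Γ(X, A))
      | ⟨true⟩ => β
    let w : cochain V (Coh.toAb O).obj (Fin 1) := fun j =>
      (show Γ(X, inter V j) from ores (iInf_le _ 0) (wv (j 0)))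
    have hw : dCech V (Coh.toAb O).obj 0 w =
        edge A B (ores (inf_le_left : A ⊓ B ≤ A) α + ores (inf_le_right : A ⊓ B ≤ B) β) := funext fun i => by
      refine (dCech_one (V := V) i w fun a => le_iInf fun _ => iInf_le _ a).trans ?_
      show ores _ (ores _ (wv (i 1))) - ores _ (ores _ (wv (i 0))) = _
      rw [ores_ores, ores_ores]
      have aux : ∀ (W : X.Opens) (a b : ULift.{u} Bool) (ha : W ≤ V a) (hb : W ≤ V b),
          (a = b → ores hb (wv b) - ores ha (wv a) = 0) ∧
          (∀ h : W ≤ A ⊓ B, a ≠ b → ores hb (wv b) - ores ha (wv a) = (bval b.down - bval a.down) •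
            ores h (ores (inf_le_left : A ⊓ B ≤ A) α + ores (inf_le_right : A ⊓ B ≤ B) β)) := by
        rintro W ⟨_ | _⟩ ⟨_ | _⟩ ha hb
        · exact ⟨fun _ => sub_self _, fun _ h => absurd rfl h⟩
        · refine ⟨fun h => absurd h (by simp), fun h _ => ?_⟩
          show ores hb β - ores ha (-α) = _
          rw [map_neg, map_add, ores_ores, ores_ores, show bval true - bval false = 1 from rfl, one_smul,
            sub_neg_eq_add]
          exact add_comm _ _
        · refine ⟨fun h => absurd h (by simp), fun h _ => ?_⟩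
          show ores hb (-α) - ores ha β = _
          rw [map_neg, map_add, ores_ores, ores_ores, show bval false - bval true = -1 from rfl, neg_one_zsmul,
            neg_add, sub_eq_add_neg]
          rfl
        · exact ⟨fun _ => sub_self _, fun _ h => absurd rfl h⟩
      unfold edge
      split_ifs with hd
      · exact (aux (inter V i) (i 0) (i 1) (iInf_le _ 0) (iInf_le _ 1)).2 _ hd
      · exact (aux (inter V i) (i 0) (i 1) (iInf_le _ 0) (iInf_le _ 1)).1 (not_not.1 hd)
    show e (ψ _) = 0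
    rw [(hker _).2 ⟨w, (cech_d_apply V _ 0 w).trans hw⟩, map_zero]

end Groth.Agent.CurveFF
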