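import Groth.Agent.CurveFF.Weil
import Groth.Agent.CurveFF.TwoCover
import Groth.Agent.CurveQProj.Affine
import Groth.Agent.FunFldLib.Cor

/-!
# `dim_k H¹(X, O_X)` is the genus of the function field
-/

noncomputable section

set_option autoImplicit false
set_option backward.isDefEq.respectTransparency.types false
set_option linter.style.haveILetI false

universe u

open CategoryTheory CategoryTheory.Limits AlgebraicGeometry Opposite TopologicalSpace WithZero

namespace Groth.Agent.CurveFF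

open FunFldLib Groth.Agent.QCohBase

section FunctionField

variable {k K : Type*} [Field k] [Field K] [Algebra k K]

/-- functions with poles only in `S` -/
def MS (k : Type*) {K : Type*} [Field k] [Field K] [Algebra k K] (S : Set (FunFld.Place k K)) : Submodule k K where
  carrier := {f | ∀ R, R ∉ S → R.1 f ≤ 1}
  add_mem' {a b} ha hb R hR := (R.1.map_add a b).trans (max_le (ha R hR) (hb R hR))
  zero_mem' R _ := by simp
  smul_mem' c a ha R hR := by
    rw [Algebra.smul_def, map_mul]; exact (mul_le_mul' (R.2.1 c) (ha R hR)).trans_eq (one_mul _)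

theorem mem_MS {S : Set (FunFld.Place k K)} {f : K} : f ∈ MS k S ↔ ∀ R, R ∉ S → R.1 f ≤ 1 := Iff.rfl

theorem L_inf (D E : FunFld.Divisor k K) : FunFld.L D ⊓ FunFld.L E = FunFld.L (D ⊓ E) := by
  refine le_antisymm (fun f hf R => ?_) (le_inf (L_mono inf_le_left) (L_mono inf_le_right))
  rw [Finsupp.inf_apply]
  rcases le_total (D R) (E R) with h | h
  · rw [inf_eq_left.2 h]; exact hf.1 R
  · rw [inf_eq_right.2 h]; exact hf.2 R

theorem L_sup (hK : FunFld.IsFunctionField k K) (D E : FunFld.Divisor k K)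
    (h : 2 * (FunFld.genus k K : ℤ) - 1 ≤ (D ⊓ E).deg) : FunFld.L D ⊔ FunFld.L E = FunFld.L (D ⊔ E) := by
  haveI := finite_L hK.1 (D ⊔ E)
  haveI := finite_L hK.1 D
  haveI := finite_L hK.1 E
  refine Submodule.eq_of_le_of_finrank_le (sup_le (L_mono le_sup_left) (L_mono le_sup_right)) ?_
  have h1 := Submodule.finrank_sup_add_finrank_inf_eq (FunFld.L D) (FunFld.L E)
  rw [L_inf] at h1
  have hs : (D ⊔ E).deg + (D ⊓ E).deg = D.deg + E.deg := by
    rw [← deg_add, ← deg_add]
    congr 1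
    ext R
    simp only [Finsupp.add_apply, Finsupp.sup_apply, Finsupp.inf_apply]
    rcases le_total (D R) (E R) with h | h
    · rw [sup_eq_right.2 h, inf_eq_left.2 h, add_comm]
    · rw [sup_eq_left.2 h, inf_eq_right.2 h]
  have e1 := ell_large hK h
  have e2 := ell_large hK (h.trans (deg_mono (inf_le_left : D ⊓ E ≤ D)))
  have e3 := ell_large hK (h.trans (deg_mono (inf_le_right : D ⊓ E ≤ E)))
  have e4 := ell_large hK (h.trans (deg_mono ((inf_le_left : D ⊓ E ≤ D).trans le_sup_left : D ⊓ E ≤ D ⊔ E)))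
  simp only [FunFld.ell] at e1 e2 e3 e4
  omega

variable (hK : FunFld.IsFunctionField k K) {P Q : FunFld.Place k K} (hPQ : P ≠ Q)

/-- `a P + b Q` -/
def dPQ (P Q : FunFld.Place k K) (a b : ℤ) : FunFld.Divisor k K := Finsupp.single P a + Finsupp.single Q b

include hPQ in
theorem dPQ_apply (a b : ℤ) :
    dPQ P Q a b P = a ∧ dPQ P Q a b Q = b ∧ ∀ R, R ≠ P → R ≠ Q → dPQ P Q a b R = 0 := by
  refine ⟨?_, ?_, fun R hP hQ => ?_⟩ <;> simp [dPQ, Finsupp.single_eq_of_ne, hPQ, hPQ.symm, *]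

include hPQ in
theorem dPQ_inf_sup (a b c d : ℤ) :
    dPQ P Q a b ⊓ dPQ P Q c d = dPQ P Q (min a c) (min b d) ∧
      dPQ P Q a b ⊔ dPQ P Q c d = dPQ P Q (max a c) (max b d) := by
  constructor <;> ext R <;>
    rcases eq_or_ne R P with rfl | hP <;>
    (first | (simp [(dPQ_apply hPQ _ _).1]; done) |
      (rcases eq_or_ne R Q with rfl | hQ <;>
        (first | (simp [(dPQ_apply hPQ _ _).2.1]; done) | simp [(dPQ_apply hPQ _ _).2.2 R hP hQ])))

theorem deg_dPQ (a b : ℤ) : (dPQ P Q a b).deg = a * P.deg + b * Q.deg := by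
  rw [dPQ, deg_add, deg_single, deg_single]

include hK hPQ in
/-- the overlap functions modulo those regular on one side have dimension the genus -/
theorem finrank_eq_genus {V : Type*} [AddCommGroup V] [Module k V] (Φ : MS k {P, Q} →ₗ[k] V)
    (hsurj : Function.Surjective Φ)
    (hker : ∀ f, Φ f = 0 ↔ (f : K) ∈ MS k {P} ⊔ MS k {Q}) :
    Module.finrank k V = FunFld.genus k K := by
  set g := FunFld.genus k K
  let n : ℤ := 2 * g + 1
  have hdP : (1 : ℤ) ≤ P.deg := by exact_mod_cast deg_pos hK.1 P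
  have hdQ : (1 : ℤ) ≤ Q.deg := by exact_mod_cast deg_pos hK.1 Q
  have hn : 0 ≤ n := by simp only [n]; omega
  have hdeg : ∀ a b : ℤ, 0 ≤ a → 0 ≤ b → (n ≤ a ∨ n ≤ b) → 2 * (g : ℤ) - 1 ≤ (dPQ P Q a b).deg := by
    intro a b ha hb h
    rw [deg_dPQ]
    simp only [n] at h
    rcases h with h | h <;> nlinarith
  let D := dPQ P Q n n
  have hLD : FunFld.L D ≤ MS k {P, Q} := fun f hf R hR => by
    simp only [Set.mem_insert_iff, Set.mem_singleton_iff, not_or] at hR
    have := hf R
    rwa [(dPQ_apply hPQ n n).2.2 R hR.1 hR.2, exp_zero] at this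
  let ι : FunFld.L D →ₗ[k] V := Φ.comp (Submodule.inclusion hLD)
  have hLP : ∀ m : ℤ, 0 ≤ m → FunFld.L (dPQ P Q m 0) ≤ MS k {P} := fun m hm f hf R hR => by
    rw [Set.mem_singleton_iff] at hR
    have := hf R
    rcases eq_or_ne R Q with rfl | hQ
    · rwa [(dPQ_apply hPQ m 0).2.1, exp_zero] at this
    · rwa [(dPQ_apply hPQ m 0).2.2 R hR hQ, exp_zero] at this
  have hLQ : ∀ m : ℤ, 0 ≤ m → FunFld.L (dPQ P Q 0 m) ≤ MS k {Q} := fun m hm f hf R hR => by
    rw [Set.mem_singleton_iff] at hR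
    have := hf R
    rcases eq_or_ne R P with rfl | hP
    · rwa [(dPQ_apply hPQ 0 m).1, exp_zero] at this
    · rwa [(dPQ_apply hPQ 0 m).2.2 R hP hR, exp_zero] at this
  have hιsurj : Function.Surjective ι := by
    intro v
    obtain ⟨⟨f, hf⟩, rfl⟩ := hsurj v
    set m := max n (max (log (P.1 f)) (log (Q.1 f))) with hm
    have hnm : n ≤ m := le_max_left _ _
    have hfm : f ∈ FunFld.L (dPQ P Q m m) := fun R => by
      rcases eq_or_ne R P with rfl | hP
      · rw [(dPQ_apply hPQ m m).1]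
        exact (le_exp_log).trans (exp_le_exp.2 ((le_max_left _ _).trans (le_max_right _ _)))
      · rcases eq_or_ne R Q with rfl | hQ
        · rw [(dPQ_apply hPQ m m).2.1]
          exact (le_exp_log).trans (exp_le_exp.2 ((le_max_right _ _).trans (le_max_right _ _)))
        · rw [(dPQ_apply hPQ m m).2.2 R hP hQ, exp_zero]
          exact hf R (by simp [hP, hQ])
    have hs : FunFld.L (dPQ P Q m m) = FunFld.L (dPQ P Q m 0) ⊔ FunFld.L D ⊔ FunFld.L (dPQ P Q 0 m) := by
      rw [L_sup hK, (dPQ_inf_sup hPQ _ _ _ _).2, L_sup hK, (dPQ_inf_sup hPQ _ _ _ _).2]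
      · congr 2 <;> omega
      · rw [(dPQ_inf_sup hPQ _ _ _ _).1]
        exact hdeg _ _ (by omega) (by omega) (by omega)
      · rw [(dPQ_inf_sup hPQ _ _ _ _).1]
        exact hdeg _ _ (by omega) (by omega) (by omega)
    rw [hs, Submodule.mem_sup] at hfm
    obtain ⟨ab, hab, c, hc, rfl⟩ := hfm
    obtain ⟨a, ha, b, hb, rfl⟩ := Submodule.mem_sup.1 hab
    refine ⟨⟨b, hb⟩, (sub_eq_zero.1 ?_).symm⟩
    show Φ _ - Φ _ = 0
    rw [← map_sub, hker]
    have : a + c ∈ MS k {P} ⊔ MS k {Q} :=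
      Submodule.add_mem_sup (hLP m (by omega) ha) (hLQ m (by omega) hc)
    show (a + b + c) - b ∈ _
    rwa [show a + b + c - b = a + c by ring]
  have hιker : (LinearMap.ker ι).map (FunFld.L D).subtype = FunFld.L (dPQ P Q n 0) ⊔ FunFld.L (dPQ P Q 0 n) := by
    refine le_antisymm ?_ (sup_le ?_ ?_)
    · rintro _ ⟨⟨f, hf⟩, hf0, rfl⟩
      obtain ⟨a, ha, b, hb, hab⟩ := Submodule.mem_sup.1 ((hker _).1 (LinearMap.mem_ker.1 hf0))
      change a + b = f at hab
      show f ∈ _
      rw [← hab] at hf ⊢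
      refine Submodule.add_mem_sup (fun R => ?_) (fun R => ?_)
      · rcases eq_or_ne R P with rfl | hP
        · rw [(dPQ_apply hPQ n 0).1]
          have h1 := hf R
          rw [(dPQ_apply hPQ n n).1] at h1
          have h2 : R.1 b ≤ exp n := (hb R (by simp [hPQ])).trans (by rw [← exp_zero]; exact exp_le_exp.2 hn)
          simpa using (R.1.map_sub (a + b) b).trans (max_le h1 h2)
        · rcases eq_or_ne R Q with rfl | hQ
          · rw [(dPQ_apply hPQ n 0).2.1, exp_zero]; exact ha R (by simpa using hP)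
          · rw [(dPQ_apply hPQ n 0).2.2 R hP hQ, exp_zero]; exact ha R (by simpa using hP)
      · rcases eq_or_ne R Q with rfl | hQ
        · rw [(dPQ_apply hPQ 0 n).2.1]
          have h1 := hf R
          rw [(dPQ_apply hPQ n n).2.1] at h1
          have h2 : R.1 a ≤ exp n := (ha R (by simp [hPQ.symm])).trans (by rw [← exp_zero]; exact exp_le_exp.2 hn)
          simpa using (R.1.map_sub (a + b) a).trans (max_le h1 h2)
        · rcases eq_or_ne R P with rfl | hP
          · rw [(dPQ_apply hPQ 0 n).1, exp_zero]; exact hb R (by simpa using hQ)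
          · rw [(dPQ_apply hPQ 0 n).2.2 R hP hQ, exp_zero]; exact hb R (by simpa using hQ)
    · intro f hf
      have hle : dPQ P Q n 0 ≤ D := by
        rw [← sup_eq_right, (dPQ_inf_sup hPQ _ _ _ _).2]
        simp [D, hn]
      exact ⟨⟨f, L_mono hle hf⟩, LinearMap.mem_ker.2 ((hker _).2 (Submodule.mem_sup_left (hLP n hn hf))), rfl⟩
    · intro f hf
      have hle : dPQ P Q 0 n ≤ D := by
        rw [← sup_eq_right, (dPQ_inf_sup hPQ _ _ _ _).2]
        simp [D, hn]
      exact ⟨⟨f, L_mono hle hf⟩, LinearMap.mem_ker.2 ((hker _).2 (Submodule.mem_sup_right (hLQ n hn hf))), rfl⟩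
  haveI := finite_L hK.1 D
  haveI := finite_L hK.1 (dPQ P Q n 0)
  haveI := finite_L hK.1 (dPQ P Q 0 n)
  have e1 := LinearMap.finrank_range_add_finrank_ker ι
  rw [LinearMap.range_eq_top.2 hιsurj, finrank_top, ← Submodule.finrank_map_subtype_eq, hιker] at e1
  have e2 := Submodule.finrank_sup_add_finrank_inf_eq (FunFld.L (dPQ P Q n 0)) (FunFld.L (dPQ P Q 0 n))
  rw [L_inf, (dPQ_inf_sup hPQ _ _ _ _).1, min_eq_right hn, min_eq_left hn,
    show dPQ P Q 0 0 = 0 by simp [dPQ]] at e2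
  have e3 := ell_large hK (hdeg n n hn hn (Or.inl le_rfl))
  have e4 := ell_large hK (hdeg n 0 hn le_rfl (Or.inl le_rfl))
  have e5 := ell_large hK (hdeg 0 n le_rfl hn (Or.inr le_rfl))
  have e6 := (ell_zero hK).2
  rw [deg_dPQ] at e3 e4 e5
  simp only [FunFld.ell] at e3 e4 e5 e6
  simp only [zero_mul, add_zero, zero_add] at e4 e5
  simp only [D] at e1
  linarith [e1, e2, e3, e4, e5, e6]

end FunctionField

section Curve

variable {k : Type u} [Field k] {X : Scheme.{u}} [X.Over (Spec (CommRingCat.of k))] [IsIntegral X]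
  (hX : Curve.IsSmoothProperCurve k X (X ↘ Spec (CommRingCat.of k)))

attribute [local instance] ffAlg

include hX in
theorem le_one_iff (R : FunFld.Place k X.functionField) (f : X.functionField) :
    R.1 f ≤ 1 ↔ ∃ a, algebraMap (X.presheaf.stalk (ptOf hX R)) X.functionField a = f := by
  obtain ⟨hd, -, h⟩ := (exists_placeOf hX R).choose_spec
  have := @placeOf_le_one_iff k _ X _ _ (ptOf hX R) hd f
  exact (Iff.of_eq (congrArg (fun T : FunFld.Place k X.functionField => T.1 f ≤ 1) h.symm)).trans this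

theorem germ_const (W : X.Opens) [Nonempty W] (a : k) :
    X.germToFunctionField W (CurveQProj.const W a) = algebraMap k X.functionField a :=
  TopCat.Presheaf.germ_res_apply X.presheaf (homOfLE le_top) (genericPoint X) _ _

include hX in
theorem germ_mem_iff (W : X.Opens) [Nonempty W] (S : Set (FunFld.Place k X.functionField))
    (hS : ∀ R, ptOf hX R ∈ W ↔ R ∉ S) (f : X.functionField) :
    f ∈ MS k S ↔ ∃ s : Γ(X, W), X.germToFunctionField W s = f := by
  refine ⟨fun hf => exists_section W f fun x hx => ?_, ?_⟩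
  · rcases eq_or_ne x (genericPoint X) with rfl | hne
    · exact CDivLib.inStalk_genericPoint X f
    · obtain ⟨R, rfl⟩ := exists_ptOf hX hne
      exact (le_one_iff hX R f).1 (hf R ((hS R).1 hx))
  · rintro ⟨s, rfl⟩ R hR
    exact (le_one_iff hX R _).2 ⟨X.presheaf.germ W _ ((hS R).2 hR) s, algebraMap_germ _ _ s⟩

include hX in
theorem finrank_H1_eq_genus [Finite k] [GeometricallyIrreducible (X ↘ Spec (CommRingCat.of k))] :
    Module.finrank k (Coh.HH X (Coh.structureModule X) 1) = FunFld.genus k X.functionField := by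
  haveI := hX.1
  have hK := isFunctionField hX
  obtain ⟨L₀, hL₀⟩ := exists_place_prime_deg hK
  obtain ⟨p, hp, hpp⟩ := Nat.exists_infinite_primes L₀
  obtain ⟨q, hq, hqp⟩ := Nat.exists_infinite_primes (p + 1)
  obtain ⟨P, hP⟩ := hL₀ p hpp hp
  obtain ⟨Q, hQ⟩ := hL₀ q hqp (by omega)
  have hPQ : P ≠ Q := fun h => by subst h; omega
  let A : X.Opens := ⟨{ptOf hX P}ᶜ, (isClosed_ptOf hX P).isOpen_compl⟩
  let B : X.Opens := ⟨{ptOf hX Q}ᶜ, (isClosed_ptOf hX Q).isOpen_compl⟩
  have hηA : genericPoint X ∈ A := fun h => ptOf_ne hX P h.symm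
  have hηB : genericPoint X ∈ B := fun h => ptOf_ne hX Q h.symm
  haveI : Nonempty A := ⟨⟨_, hηA⟩⟩
  haveI : Nonempty B := ⟨⟨_, hηB⟩⟩
  haveI : Nonempty (A ⊓ B : X.Opens) := ⟨⟨_, hηA, hηB⟩⟩
  have haff : ∀ (R : FunFld.Place k X.functionField) (W : X.Opens), (W : Set X) = {ptOf hX R}ᶜ →
      IsAffineOpen W := fun R W hW => by
    refine CurveQProj.isAffineOpen_compl (k := k) (dim_le hX) W ?_ (fun h => ?_) ?_
    · exact ⟨genericPoint X, hW ▸ fun h => ptOf_ne hX R h.symm⟩
    · have hmem : ptOf hX R ∈ (W : Set X) := by rw [h]; trivial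
      exact (hW ▸ hmem : ptOf hX R ∈ ({ptOf hX R}ᶜ : Set X)) rfl
    · rw [hW, compl_compl]; exact Set.finite_singleton _
  have hcov : A ⊔ B = ⊤ := by
    refine eq_top_iff.2 fun z _ => ?_
    by_cases h : z = ptOf hX P
    · exact Or.inr fun h' => hPQ (ptOf_injective hX (h.symm.trans h'))
    · exact Or.inl h
  obtain ⟨L, hLs, hLsmul, hLker⟩ := exists_overlap_map (k := k) A B (haff P A rfl) (haff Q B rfl) hcov
  have hSA : ∀ R, ptOf hX R ∈ A ↔ R ∉ ({P} : Set _) := fun R => (ptOf_injective hX).ne_iff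
  have hSB : ∀ R, ptOf hX R ∈ B ↔ R ∉ ({Q} : Set _) := fun R => (ptOf_injective hX).ne_iff
  have hSAB : ∀ R, ptOf hX R ∈ A ⊓ B ↔ R ∉ ({P, Q} : Set _) := fun R => by
    show ptOf hX R ∈ A ∧ ptOf hX R ∈ B ↔ _
    rw [hSA, hSB]
    simp
  choose sec hsec using fun f : MS k ({P, Q} : Set (FunFld.Place k X.functionField)) =>
    (germ_mem_iff hX (A ⊓ B) _ hSAB f.1).1 f.2
  have hinj := Scheme.germToFunctionField_injective X (A ⊓ B)
  let Φ : MS k ({P, Q} : Set (FunFld.Place k X.functionField)) →ₗ[k] Coh.HH X (Coh.structureModule X) 1 :=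
    { toFun := fun f => L (sec f)
      map_add' := fun f g => by
        rw [← map_add L]
        exact congrArg L (hinj (by rw [map_add, hsec, hsec, hsec]; rfl))
      map_smul' := fun c f => by
        rw [RingHom.id_apply, ← hLsmul]
        exact congrArg L (hinj (by rw [map_mul, hsec, hsec, germ_const, Submodule.coe_smul, Algebra.smul_def])) }
  have hres : ∀ {U : X.Opens} [Nonempty U] (h : A ⊓ B ≤ U) (s : Γ(X, U)),
      X.germToFunctionField (A ⊓ B) (ores h s) = X.germToFunctionField U s := fun h s =>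
    TopCat.Presheaf.germ_res_apply X.presheaf (homOfLE h) (genericPoint X) _ s
  refine finrank_eq_genus hK hPQ Φ (fun v => ?_) (fun f => ?_)
  · obtain ⟨g, rfl⟩ := hLs v
    refine ⟨⟨_, (germ_mem_iff hX (A ⊓ B) _ hSAB _).2 ⟨g, rfl⟩⟩, congrArg L (hinj ?_)⟩
    rw [hsec]
  · show L (sec f) = 0 ↔ _
    rw [hLker, Submodule.mem_sup]
    constructor
    · rintro ⟨α, β, h⟩
      refine ⟨_, (germ_mem_iff hX A _ hSA _).2 ⟨α, rfl⟩, _, (germ_mem_iff hX B _ hSB _).2 ⟨β, rfl⟩, ?_⟩
      rw [← hsec f, h, map_add, hres, hres]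
    · rintro ⟨a, ha, b, hb, hab⟩
      obtain ⟨α, rfl⟩ := (germ_mem_iff hX A _ hSA a).1 ha
      obtain ⟨β, rfl⟩ := (germ_mem_iff hX B _ hSB b).1 hb
      refine ⟨α, β, hinj ?_⟩
      rw [hsec, map_add, hres, hres, hab]

end Curve

end Groth.Agent.CurveFF
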