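import Groth.Agent.CurveFF.Count
import Groth.Agent.FunFldLib.RH
import Mathlib.Analysis.SpecialFunctions.Pow.Real

/-!
# The Hasse–Weil bound for the number of places
-/

noncomputable section

set_option autoImplicit false
set_option backward.isDefEq.respectTransparency.types false

namespace Groth.Agent.CurveFF

open FunFldLib

variable {k K : Type*} [Field k] [Finite k] [Field K] [Algebra k K]

/-- reciprocal roots with all their properties -/
theorem exists_roots (hK : FunFld.IsFunctionField k K) :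
    ∃ α : Fin (2 * FunFld.genus k K) → ℂ, (∀ i, IsIntegral ℤ (α i)) ∧ (∀ i, ‖α i‖ = Real.sqrt (Nat.card k)) ∧
      (∀ i, α i * α (Fin.rev i) = (Nat.card k : ℂ)) ∧
      ∀ n, 0 < n → (NN k K n : ℂ) = 1 + (Nat.card k : ℂ) ^ n - ∑ i, α i ^ n := by
  obtain ⟨α, hint, hnum, hrev⟩ := exists_reciprocal_roots hK
  obtain ⟨β, hnum', hnorm⟩ := norm_root_eq hK
  refine ⟨α, hint, fun i => ?_, hrev, fun n hn => newton hK.1 α hnum hn⟩
  have hP : (∏ j, (1 - Polynomial.C (α j) * Polynomial.X) : Polynomial ℂ) =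
      ∏ j, (1 - Polynomial.C (β j) * Polynomial.X) := Polynomial.coe_inj.1 (hnum.symm.trans hnum')
  have hq : (0 : ℝ) < Nat.card k := Nat.cast_pos.2 Nat.card_pos
  have hαne : α i ≠ 0 := fun h => by
    have := hrev i
    rw [h, zero_mul] at this
    exact hq.ne' (by exact_mod_cast this.symm)
  have h1 := congrArg (Polynomial.eval (α i)⁻¹) hP
  rw [Polynomial.eval_prod, Polynomial.eval_prod, Finset.prod_eq_zero (Finset.mem_univ i) (by simp [hαne])] at h1
  obtain ⟨j, -, hj⟩ := Finset.prod_eq_zero_iff.1 h1.symm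
  simp only [Polynomial.eval_sub, Polynomial.eval_one, Polynomial.eval_mul, Polynomial.eval_C,
    Polynomial.eval_X, sub_eq_zero] at hj
  have : α i = β j := by
    field_simp at hj
    exact hj
  rw [this, hnorm j]

theorem weil_bound (hK : FunFld.IsFunctionField k K) {n : ℕ} (hn : 0 < n) :
    |(NN k K n : ℝ) - ((Nat.card k : ℝ) ^ n + 1)| ≤ 2 * FunFld.genus k K * Real.sqrt (Nat.card k) ^ n := by
  obtain ⟨α, -, hnorm, -, hN⟩ := exists_roots hK
  have h : ((((NN k K n : ℝ) - ((Nat.card k : ℝ) ^ n + 1) : ℝ)) : ℂ) = - ∑ i, α i ^ n := by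
    push_cast
    rw [hN n hn]
    ring
  rw [← Real.norm_eq_abs, ← Complex.norm_real, h, norm_neg]
  refine (norm_sum_le _ _).trans ?_
  simp only [norm_pow, hnorm, Finset.sum_const, Finset.card_univ, Fintype.card_fin, nsmul_eq_mul]
  push_cast
  exact le_rfl

theorem sqrt_pow_eq_rpow (q : ℝ) (hq : 0 ≤ q) (n : ℕ) : Real.sqrt q ^ n = q ^ ((n : ℝ) / 2) := by
  rw [Real.sqrt_eq_rpow, ← Real.rpow_natCast, ← Real.rpow_mul hq]
  ring_nf

/-- for all large primes `l` there is a place of degree `l` -/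
theorem exists_place_prime_deg (hK : FunFld.IsFunctionField k K) :
    ∃ L : ℕ, ∀ l : ℕ, l.Prime → L ≤ l → ∃ P : FunFld.Place k K, P.deg = l := by
  have hq : (1 : ℝ) < Real.sqrt (Nat.card k) := by
    rw [Real.lt_sqrt zero_le_one, one_pow]
    exact_mod_cast Finite.one_lt_card
  obtain ⟨L, hL⟩ := pow_unbounded_of_one_lt
    (2 * (FunFld.genus k K : ℝ) + NN k K 1) hq
  refine ⟨L, fun l hl hLl => ?_⟩
  by_contra! h
  have hset : {P : FunFld.Place k K | P.deg ∣ l} = {P : FunFld.Place k K | P.deg ∣ 1} := by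
    ext P
    simp only [Set.mem_setOf_eq, Nat.dvd_one]
    exact ⟨fun hd => ((Nat.dvd_prime hl).1 hd).resolve_right (h P), fun hd => hd ▸ one_dvd l⟩
  have hNN : NN k K l = NN k K 1 := by rw [NN, NN, hset]
  have hb := weil_bound hK hl.pos
  rw [hNN] at hb
  set s := Real.sqrt (Nat.card k) with hs
  have hsl : 2 * (FunFld.genus k K : ℝ) + NN k K 1 < s ^ l :=
    hL.trans_le (pow_le_pow_right₀ hq.le hLl)
  have hql : (Nat.card k : ℝ) ^ l = s ^ l * s ^ l := by
    rw [← mul_pow, hs, Real.mul_self_sqrt (Nat.cast_nonneg _)]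
  have h1 : 1 ≤ s ^ l := one_le_pow₀ hq.le
  have h2 := (abs_le.1 hb).1
  rw [hql] at h2
  have hN0 : (0 : ℝ) ≤ NN k K 1 := Nat.cast_nonneg _
  nlinarith

end Groth.Agent.CurveFF
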